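import Cfsg.Agent.Lib.HSLocal.Finish.Main

/-!
# From a homomorphism of the Higman-Sims group to an isomorphism

The endgame of the model is transported along the injective homomorphism.
-/

set_option autoImplicit false
set_option linter.unusedSectionVars false
set_option linter.style.haveILetI false

namespace Cfsg.Agent.HSLocal.Finish

open Cfsg Cfsg.Agent.Lib.HSMult Cfsg.Agent.Involutions

universe u v

variable {X : Type u} [Group X] {G : Type v} [Group G] {φ : X →* G} {t w p : X}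

theorem comm_map (hφ : Function.Injective φ) {a b : X} : φ a * φ b = φ b * φ a ↔ a * b = b * a := by
  rw [← map_mul, ← map_mul, hφ.eq_iff]

theorem jointCard_map (hφ : Function.Injective φ) (hc : ∀ g : G, g * φ t = φ t * g → g ∈ φ.range) (y : X) :
    jointCard (φ t) (φ y) = jointCard t y :=
  (Nat.card_congr (Equiv.ofBijective
    (fun x : {x : X // x * t = t * x ∧ x * y = y * x} =>
      (⟨φ x.1, (comm_map hφ).2 x.2.1, (comm_map hφ).2 x.2.2⟩ :
        {g : G // g * φ t = φ t * g ∧ g * φ y = φ y * g}))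
    ⟨fun a b e => Subtype.ext (hφ (congrArg Subtype.val e)), fun g => by
      obtain ⟨x, hx⟩ := hc g.1 g.2.1
      exact ⟨⟨x, (comm_map hφ).1 (by rw [hx]; exact g.2.1), (comm_map hφ).1 (by rw [hx]; exact g.2.2)⟩,
        Subtype.ext hx⟩⟩)).symm

/-- The endgame data pass along an injective homomorphism whose image contains the centraliser of `t`. -/
theorem endgame_map (E : Endgame (⊤ : Subgroup X) t w p) (hφ : Function.Injective φ)
    (hc : ∀ g : G, g * φ t = φ t * g → g ∈ φ.range) : Endgame φ.range (φ t) (φ w) (φ p) := by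
  have hord : ∀ x : X, orderOf (φ x) = orderOf x := orderOf_injective φ hφ
  refine ⟨(hord t).trans E.ot, hc, ?_, ?_, ?_, ?_, (hord w).trans E.ow, (comm_map hφ).2 E.wt,
    (comm_map hφ).2 E.ut, ?_, ?_, ?_, ?_⟩
  · rintro _ ⟨x, rfl⟩ hx
    rcases E.two x (Subgroup.mem_top x) ((hord x).symm.trans hx) with ⟨g, -, hg⟩ | ⟨g, -, hg⟩
    · exact Or.inl ⟨φ g, ⟨g, rfl⟩, by rw [← map_inv, ← map_mul, ← map_mul, hg]⟩
    · exact Or.inr ⟨φ g, ⟨g, rfl⟩, by rw [← map_inv, ← map_mul, ← map_mul, hg]⟩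
  · obtain ⟨s, h1, h2, h3⟩ := E.square
    exact ⟨φ s, (comm_map hφ).2 h1, (comm_map hφ).2 h2, by rw [← map_mul, h3]⟩
  · rintro x hx hxt hj ⟨s, h1, h2, h3⟩
    obtain ⟨x, rfl⟩ := hc x hxt
    obtain ⟨s, rfl⟩ := hc s h1
    rw [jointCard_map hφ hc, jointCard_map hφ hc] at hj
    exact E.no_square x ((hord x).symm.trans hx) ((comm_map hφ).1 hxt) hj
      ⟨s, (comm_map hφ).1 h1, (comm_map hφ).1 h2, hφ (by rw [map_mul, h3])⟩
  · intro x hx hxt hj
    obtain ⟨x, rfl⟩ := hc x hxt
    rw [jointCard_map hφ hc, jointCard_map hφ hc] at hj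
    obtain ⟨k, h1, h2⟩ := E.one_class x ((hord x).symm.trans hx) ((comm_map hφ).1 hxt) hj
    exact ⟨φ k, (comm_map hφ).2 h1, by rw [← map_inv, ← map_mul, ← map_mul, h2]⟩
  · obtain ⟨g, -, hg⟩ := E.uw
    exact ⟨φ g, ⟨g, rfl⟩, by rw [← map_inv, ← map_mul, ← map_mul, hg]⟩
  · obtain ⟨g, -, hg⟩ := E.tuw
    exact ⟨φ g, ⟨g, rfl⟩, by rw [← map_inv, ← map_mul, ← map_mul, hg, map_mul]⟩
  · rw [jointCard_map hφ hc, jointCard_map hφ hc]
    exact E.card_ne
  · intro z hz hzt hzu hne
    obtain ⟨z, rfl⟩ := hc z hzt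
    rcases E.middle z ((hord z).symm.trans hz) ((comm_map hφ).1 hzt) ((comm_map hφ).1 hzu)
        (fun e => hne (by rw [e])) with ⟨g, -, hg⟩ | ⟨g, -, hg⟩
    · exact Or.inl ⟨φ g, ⟨g, rfl⟩, by rw [← map_inv, ← map_mul, ← map_mul, hg]⟩
    · exact Or.inr ⟨φ g, ⟨g, rfl⟩, by rw [← map_inv, ← map_mul, ← map_mul, hg, map_mul]⟩

/-- A homomorphism of the Higman-Sims group that reaches an involution `t` with at most 7680 commuting
elements, from an involution with a fixed point, is an isomorphism. -/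
theorem isoHS [Finite G] (R : Lib.HSMult.Real) (φ : Spor.HS →* G) {x : Spor.HS} (hx : orderOf x = 2)
    (hfix : ∃ i, R.φ x i = i) {t : G} (ht : φ x = t) (ht1 : t ≠ 1)
    (hcard : Nat.card ↥(Subgroup.centralizer ({t} : Set G)) ≤ 7680) : Spor.IsoHS G := by
  haveI := finite_HS
  haveI := simple_HS
  obtain ⟨D⟩ := nonempty_gen R
  obtain ⟨g, hg⟩ := D.conj_of_fx hx hfix
  set ψ : Spor.HS →* G := φ.comp (MulAut.conj g).toMonoidHom with hψ
  have hψt : ψ (D.l 0) = t := by
    show φ (g * D.l 0 * g⁻¹) = t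
    rw [hg, ht]
  have hinj : Function.Injective ψ := by
    refine (MonoidHom.ker_eq_bot_iff _).1 ((inferInstance : ψ.ker.Normal).eq_bot_or_eq_top.resolve_right ?_)
    intro e
    exact ht1 (by rw [← hψt]; exact MonoidHom.mem_ker.1 (e ▸ Subgroup.mem_top (D.l 0)))
  let f : ↥(Subgroup.centralizer ({D.l 0} : Set Spor.HS)) → ↥(Subgroup.centralizer ({t} : Set G)) := fun c =>
    ⟨ψ c, Subgroup.mem_centralizer_singleton_iff.2 (by
      rw [← hψt, ← map_mul, ← map_mul, Subgroup.mem_centralizer_singleton_iff.1 c.2])⟩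
  have hf : Function.Injective f := fun a b e => Subtype.ext (hinj (congrArg Subtype.val e))
  have hC := (Nat.card_le_card_of_injective f hf).trans hcard
  have hge : 7680 ≤ Nat.card ↥(Subgroup.centralizer ({D.l 0} : Set Spor.HS)) :=
    D.card_cen_ge.trans (Subgroup.card_le_of_le D.cen_le)
  have hb : Function.Bijective f := by
    classical
    haveI := Fintype.ofFinite ↥(Subgroup.centralizer ({D.l 0} : Set Spor.HS))
    haveI := Fintype.ofFinite ↥(Subgroup.centralizer ({t} : Set G))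
    refine (Fintype.bijective_iff_injective_and_card f).2 ⟨hf, le_antisymm (Fintype.card_le_of_injective f hf) ?_⟩
    rw [← Nat.card_eq_fintype_card, ← Nat.card_eq_fintype_card]
    exact hcard.trans hge
  have hc : ∀ y : G, y * ψ (D.l 0) = ψ (D.l 0) * y → y ∈ ψ.range := fun y hy => by
    obtain ⟨c, hc⟩ := hb.2 ⟨y, Subgroup.mem_centralizer_singleton_iff.2 (hψt ▸ hy)⟩
    exact ⟨c, congrArg Subtype.val hc⟩
  have htop := (endgame_map (D.endgame hC) hinj hc).eq_top
  exact ⟨((MonoidHom.ofInjective hinj).trans ((MulEquiv.subgroupCongr htop).trans Subgroup.topEquiv)).symm⟩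

end Cfsg.Agent.HSLocal.Finish
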