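import Cfsg.Agent.Lib.HSLocal.Finish.Defs

set_option autoImplicit false
set_option maxRecDepth 100000

namespace Cfsg.Agent.HSLocal.Finish

open Cfsg.Agent.Lib.HSMult

theorem genB : permsB Data.genP Data.genSw = true := by decide +kernel
theorem pc_ok : pcB = true := by decide +kernel
theorem xTree_ok : xTreeB = true := by decide +kernel
theorem xNodup_ok : xNodupB = true := by decide +kernel
theorem xSq_ok : xSqB = true := by decide +kernel
theorem lNodup_ok : lNodupB = true := by decide +kernel
theorem lPar_ok : lParB = true := by decide +kernel
theorem rep_ok : repB = true := by decide +kernel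
theorem misc_ok : miscB = true := by decide +kernel
theorem mid_ok : midB = true := by decide +kernel

end Cfsg.Agent.HSLocal.Finish
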