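import Cfsg.Agent.Lib.HSMult.Model
import Cfsg.Agent.Lib.HSLocal.Finish.Data

/-!
Checks on the packed permutations of the centralizer of a central involution of the Higman-Sims group.
-/

set_option autoImplicit false
set_option maxRecDepth 100000

namespace Cfsg.Agent.HSLocal.Finish

open Cfsg.Agent.Lib.HSMult Cfsg.Agent.Lib.PcMult

/-- The first index of the classes of involutions of the centralizer, and their number. -/
def starts : List ℕ := [0, 1, 31, 111, 231, 311]

/-- The class of an index. -/
def blk (k : ℕ) : ℕ :=
  if k < 1 then 0 else if k < 31 then 1 else if k < 111 then 2 else if k < 231 then 3 else 4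

/-- The Sylow element that represents each class. -/
def repX : List ℕ := [256, 1, 2, 4, 34]

def gp (j : ℕ) : ℕ := Data.genP.getD j 0
def xp (m : ℕ) : ℕ := Data.xP.getD m 0
def lp (k : ℕ) : ℕ := Data.lP.getD k 0

/-- Two maps agree on all points. -/
def sameB (f h : Fin 100 → Fin 100) : Bool := (List.finRange 100).all fun i => decide (f i = h i)

/-- A map has a fixed point. -/
def fixB (f : Fin 100 → Fin 100) : Bool := (List.finRange 100).any fun i => decide (f i = i)

/-- Strictly increasing. -/
def incB : List ℕ → Bool
  | [] => true
  | [_] => true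
  | a :: b :: l => decide (a < b) && incB (b :: l)

/-- The code of a packed permutation at given points. -/
def code (bs : List (Fin 100)) (N : ℕ) : ℕ := bs.foldl (fun r i => 128 * r + (app N i).1) 0

/-- The images of the points that separate the Sylow elements. -/
def codeX (N : ℕ) : ℕ := code [2, 4] N

/-- The images of the points that separate the involutions. -/
def codeL (N : ℕ) : ℕ := code [2, 4, 1] N

/-- The rules of the Sylow 2-subgroup. -/
def pcB : Bool :=
  (List.range 9).all fun i =>
    eqB Data.genP (List.replicate 2 i) (Lib.HSMult.Data.RTwo.pwWord i) &&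
    ((Lib.HSMult.Data.RTwo.pwWord i).all fun k => decide (i < k ∧ k < 9)) &&
    ((List.range' (i + 1) (9 - (i + 1))).all fun j =>
      eqB Data.genP [j, i] (i :: Lib.HSMult.Data.RTwo.cjWord i j) &&
      (Lib.HSMult.Data.RTwo.cjWord i j).all fun k => decide (i < k ∧ k < 9))

/-- Each Sylow element is the identity or a generator times an earlier one. -/
def xTreeB : Bool :=
  sameB (app (xp 0)) id &&
  ((List.range' 1 511).all fun m =>
    let p := Data.xPar.getD m (0, 0)
    decide (p.1 < 9 ∧ p.2 < m) && sameB (app (xp m)) fun i => app (gp p.1) (app (xp p.2) i))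

/-- The Sylow elements differ. -/
def xNodupB : Bool :=
  incB (Data.xOrd.map fun m => codeX (xp m)) && (List.range 512).all fun m => Data.xOrd.contains m

/-- The squares and the involutions among the Sylow elements. -/
def xSqB : Bool :=
  (List.range 512).all fun m =>
    let k := Data.xSq.getD m 0
    decide (k < 512) && sameB (app (xp k)) (fun i => app (xp m) (app (xp m) i)) &&
    (k != 0 || m == 0 || (decide (Data.xInv.getD m 311 < 311) &&
      sameB (app (lp (Data.xInv.getD m 311))) (app (xp m)))) &&
    decide (¬(111 ≤ Data.xInv.getD k 311 ∧ Data.xInv.getD k 311 < 231))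

/-- The involutions of the centralizer differ. -/
def lNodupB : Bool :=
  incB (Data.lOrd.map fun k => codeL (lp k)) && (List.range 311).all fun k => Data.lOrd.contains k

/-- The classes are connected. -/
def lParB : Bool :=
  (List.range 311).all fun k =>
    let p := Data.lPar.getD k (0, 0)
    if starts.contains k then sameB (app (lp k)) (app (xp (repX.getD (blk k) 0)))
    else decide (p.1 < k ∧ p.2 < 11 ∧ (Data.lTr.getD p.1 []).getD p.2 311 = k)

/-- The classes are invariant. -/
def lTrB (lo n : ℕ) : Bool :=
  (List.range' lo n).all fun k => (List.range 11).all fun j =>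
    let t := (Data.lTr.getD k []).getD j 311
    decide (t < 311 ∧ blk t = blk k) &&
      sameB (fun i => app (gp j) (app (lp k) i)) fun i => app (lp t) (app (gp j) i)

/-- The representatives are involutions, and three conjugators fuse them. -/
def repB : Bool :=
  (repX.all fun m => decide (0 < m ∧ m < 512 ∧ Data.xSq.getD m 0 = 0)) &&
  sameB (fun i => app (gp 11) (app (lp 1) i)) (fun i => app (lp 0) (app (gp 11) i)) &&
  sameB (fun i => app (gp 12) (app (lp 31) i)) (fun i => app (lp 0) (app (gp 12) i)) &&
  sameB (fun i => app (gp 13) (app (lp 231) i)) (fun i => app (lp 111) (app (gp 13) i))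

/-- Fixed points, the square root, the orders three and five. -/
def miscB : Bool :=
  fixB (app (lp 0)) && !fixB (app (lp 111)) && !fixB (app (lp 231)) &&
  sameB (fun i => app (lp 0) (app (lp 231) i)) (app (lp 247)) &&
  decide (Data.xSq.getD 48 0 = 256) &&
  sameB (fun i => app (xp 48) (app (lp 111) i)) (fun i => app (lp 111) (app (xp 48) i)) &&
  sameB (fun i => app (gp 9) (app (gp 9) (app (gp 9) i))) id && !sameB (app (gp 9)) id &&
  sameB (fun i => app (gp 10) (app (gp 10) (app (gp 10) (app (gp 10) (app (gp 10) i))))) id &&
  !sameB (app (gp 10)) id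

/-- Every involution commuting with `t` and `u` has, or has with `u`, a fixed point. -/
def midB : Bool :=
  (List.range 311).all fun j =>
    j == 231 || !sameB (fun i => app (lp j) (app (lp 231) i)) (fun i => app (lp 231) (app (lp j) i)) ||
      fixB (app (lp j)) || fixB fun i => app (lp j) (app (lp 231) i)

end Cfsg.Agent.HSLocal.Finish
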