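import Cfsg.Agent.Lib.HSLocal.Finish.Model
import Cfsg.Agent.Lib.HSLocal.Endgame

/-!
# The generic end of the recognition of the Higman-Sims group

A homomorphism of the Higman-Sims group into `G` that sends an involution with fixed points on the 100 points to
`t`, where `C(t)` has order at most 7680, is an isomorphism.
-/

set_option autoImplicit false
set_option maxRecDepth 100000
set_option linter.unusedSectionVars false
set_option linter.style.haveILetI false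

namespace Cfsg.Agent.HSLocal.Finish

open Cfsg Cfsg.Agent.Lib.HSMult Cfsg.Agent.Involutions

universe v

variable {R : Lib.HSMult.Real} (D : Gen R)

/-- An element with a fixed point. -/
def Fx (R : Lib.HSMult.Real) (x : Spor.HS) : Prop := ∃ i, R.φ x i = i

theorem fx_conj {x : Spor.HS} (c : Spor.HS) : Fx R (c * x * c⁻¹) ↔ Fx R x := by
  have : ∀ (y d : Spor.HS), Fx R y → Fx R (d * y * d⁻¹) := fun y d ⟨i, hi⟩ => ⟨R.φ d i, by
    rw [← Equiv.Perm.mul_apply, ← map_mul, inv_mul_cancel_right, map_mul, Equiv.Perm.mul_apply, hi]⟩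
  exact ⟨fun h => by simpa [mul_assoc] using this _ c⁻¹ h, this x c⟩

theorem fx_is {x : Spor.HS} {N : ℕ} (hx : Is R x N) : Fx R x ↔ fixB (app N) = true := by
  rw [of_fixB]
  exact exists_congr fun i => by rw [hx i]

theorem Gen.orderOf_l {k : ℕ} (hk : k < 311) : orderOf (D.l k) = 2 :=
  Basic.orderOf_two_iff.2 (D.l_sq hk)

theorem Gen.cen_le : D.cen ≤ Subgroup.centralizer ({D.l 0} : Set Spor.HS) := fun c hc => by
  obtain ⟨k, hk, hb, e⟩ := D.conj_cen hc (k := 0) (by norm_num)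
  rcases blk_cases k with ⟨e', h⟩ | ⟨e', -⟩ | ⟨e', -⟩ | ⟨e', -⟩ | ⟨e', -⟩
  · rw [Subgroup.mem_centralizer_singleton_iff]
    obtain rfl : k = 0 := by omega
    exact mul_inv_eq_iff_eq_mul.1 e
  all_goals (rw [e'] at hb; simp [blk] at hb)

theorem Gen.card_cen_ge : 7680 ≤ Nat.card ↥D.cen := by
  haveI := finite_HS
  have h := misc_ok
  simp only [miscB, Bool.and_eq_true, Bool.not_eq_true'] at h
  obtain ⟨⟨⟨⟨-, h3⟩, h3'⟩, h5⟩, h5'⟩ := h
  have h512 : 512 ∣ Nat.card ↥D.cen := D.card_syl ▸ Subgroup.card_dvd_of_le D.syl_le_cen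
  have ord : ∀ j < 11, ∀ p : ℕ, p.Prime → D.g j ^ p = 1 → sameB (app (gp j)) id = false →
      p ∣ Nat.card ↥D.cen := by
    intro j hj p hp h1 h2
    haveI := Fact.mk hp
    rw [← orderOf_eq_prime h1 fun e => ?_]
    · exact Subgroup.orderOf_dvd_natCard _ (D.g_mem_cen hj)
    rw [← Bool.not_eq_true] at h2
    refine h2 (List.all_eq_true.2 fun i _ => decide_eq_true ?_)
    rw [← D.spec j (by omega) i, e, map_one]
    rfl
  have d3 := ord 9 (by norm_num) 3 Nat.prime_three (R.inj (Equiv.ext fun i => by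
    rw [map_pow, map_one, pow_succ, pow_two, Equiv.Perm.mul_apply, Equiv.Perm.mul_apply,
      D.spec 9 (by norm_num), D.spec 9 (by norm_num), D.spec 9 (by norm_num), of_sameB h3 i]
    rfl)) h3'
  have d5 := ord 10 (by norm_num) 5 (by norm_num) (R.inj (Equiv.ext fun i => by
    rw [map_pow, map_one, pow_succ, pow_succ, pow_succ, pow_two, Equiv.Perm.mul_apply, Equiv.Perm.mul_apply,
      Equiv.Perm.mul_apply, Equiv.Perm.mul_apply, D.spec 10 (by norm_num), D.spec 10 (by norm_num),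
      D.spec 10 (by norm_num), D.spec 10 (by norm_num), D.spec 10 (by norm_num), of_sameB h5 i]
    rfl)) h5'
  refine Nat.le_of_dvd Nat.card_pos (show 512 * 3 * 5 ∣ _ from ?_)
  exact Nat.Coprime.mul_dvd_of_dvd_of_dvd (by norm_num)
    (Nat.Coprime.mul_dvd_of_dvd_of_dvd (by norm_num) h512 d3) d5

theorem factor_two_HS : (Nat.card Spor.HS).factorization 2 = 9 := by
  rw [card_HS, show (44352000 : ℕ) = 2 ^ 9 * 86625 by norm_num,
    Nat.factorization_mul (by norm_num) (by norm_num), Finsupp.coe_add, Pi.add_apply,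
    Nat.prime_two.factorization_pow, Finsupp.single_eq_same,
    Nat.factorization_eq_zero_of_not_dvd (by norm_num), add_zero]

/-- An involution of a subgroup over the Sylow subgroup is conjugate in it to a listed one. -/
theorem Gen.exists_conj_l {C : Subgroup Spor.HS} (hC : D.syl ≤ C) {x : Spor.HS} (hx : x ∈ C)
    (h2 : orderOf x = 2) : ∃ c ∈ C, ∃ j < 311, c * x * c⁻¹ = D.l j := by
  haveI := finite_HS
  haveI : Fact (Nat.Prime 2) := ⟨Nat.prime_two⟩
  let P : Sylow 2 Spor.HS := Sylow.ofCard D.syl (by rw [D.card_syl, factor_two_HS]; norm_num)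
  let x' : ↥C := ⟨x, hx⟩
  have hP : IsPGroup 2 ↥(Subgroup.zpowers x') := IsPGroup.of_card (n := 1) (by
    rw [Nat.card_zpowers, ← Subgroup.orderOf_coe]
    exact h2)
  obtain ⟨T, hT⟩ := hP.exists_le_sylow
  obtain ⟨c, hc⟩ := MulAction.exists_smul_eq ↥C T (P.subtype (show (P : Subgroup Spor.HS) ≤ C from hC))
  have h1 : c * x' * c⁻¹ ∈ (P.subtype (show (P : Subgroup Spor.HS) ≤ C from hC) : Subgroup ↥C) := by
    rw [← hc, Sylow.coe_subgroup_smul, Subgroup.mem_pointwise_smul_iff_inv_smul_mem]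
    simpa [mul_assoc] using hT (Subgroup.mem_zpowers x')
  rw [Sylow.coe_subtype, Subgroup.mem_subgroupOf] at h1
  obtain ⟨m, hm, e⟩ := D.eq_x_of_mem (show (c : Spor.HS) * x * (c : Spor.HS)⁻¹ ∈ D.syl from h1)
  have ho : orderOf (D.x m) = 2 := by rw [e, Basic.orderOf_conj, h2]
  obtain ⟨ha, hb⟩ := Basic.orderOf_two_iff.1 ho
  obtain ⟨hj, el⟩ := D.x_involution hm ha hb
  exact ⟨c, c.2, _, hj, by rw [el, e]⟩

theorem Gen.two {x : Spor.HS} (h2 : orderOf x = 2) :
    (∃ g, g * D.l 0 * g⁻¹ = x) ∨ ∃ g, g * D.l 111 * g⁻¹ = x := by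
  obtain ⟨c, -, j, hj, e⟩ := D.exists_conj_l le_top (Subgroup.mem_top x) h2
  obtain ⟨d, -, hd⟩ := D.l_conj hj
  have hrep := rep_ok
  simp only [repB, Bool.and_eq_true] at hrep
  obtain ⟨⟨⟨-, h11⟩, h12⟩, h13⟩ := hrep
  have fuse : ∀ g a b : ℕ, g < 14 → a < 311 → b < 311 →
      sameB (fun i => app (gp g) (app (lp a) i)) (fun i => app (lp b) (app (gp g) i)) = true →
      rep j = a → ∃ g', g' * D.l b * g'⁻¹ = x := by
    intro g a b hg ha hb hs hr
    refine ⟨c⁻¹ * d * (D.g g)⁻¹, ?_⟩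
    have hab : D.g g * D.l a = D.l b * D.g g :=
      (D.is g hg).mul_eq_mul (D.l_is ha) (D.l_is hb) (D.is g hg) hs
    rw [hr] at hd
    calc c⁻¹ * d * (D.g g)⁻¹ * D.l b * (c⁻¹ * d * (D.g g)⁻¹)⁻¹
        = c⁻¹ * d * ((D.g g)⁻¹ * (D.l b * D.g g)) * d⁻¹ * c := by group
      _ = c⁻¹ * (d * D.l a * d⁻¹) * c := by rw [← hab]; group
      _ = x := by rw [hd, ← e]; group
  have base : ∀ a : ℕ, rep j = a → ∃ g', g' * D.l a * g'⁻¹ = x := fun a hr =>
    ⟨c⁻¹ * d, by rw [show c⁻¹ * d * D.l a * (c⁻¹ * d)⁻¹ = c⁻¹ * (d * D.l a * d⁻¹) * c by group, ← hr, hd, ← e]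
                 group⟩
  rcases blk_cases j with ⟨e', -⟩ | ⟨e', -⟩ | ⟨e', -⟩ | ⟨e', -⟩ | ⟨e', -⟩
  · exact Or.inl (base 0 (by rw [rep, e']; rfl))
  · exact Or.inl (fuse 11 1 0 (by norm_num) (by norm_num) (by norm_num) h11 (by rw [rep, e']; rfl))
  · exact Or.inl (fuse 12 31 0 (by norm_num) (by norm_num) (by norm_num) h12 (by rw [rep, e']; rfl))
  · exact Or.inr (base 111 (by rw [rep, e']; rfl))
  · exact Or.inr (fuse 13 231 111 (by norm_num) (by norm_num) (by norm_num) h13 (by rw [rep, e']; rfl))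

theorem Gen.conj_of_fx {x : Spor.HS} (h2 : orderOf x = 2) (hf : Fx R x) : ∃ g, g * D.l 0 * g⁻¹ = x := by
  rcases D.two h2 with h | ⟨g, rfl⟩
  · exact h
  · exfalso
    rw [fx_conj, fx_is (D.l_is (by norm_num))] at hf
    have h := misc_ok
    simp only [miscB, Bool.and_eq_true, Bool.not_eq_true'] at h
    rw [h.1.1.1.1.1.1.1.1.2] at hf
    exact Bool.noConfusion hf

/-- No element of the centralizer squares into the class of 120. -/
theorem Gen.no_root {s : Spor.HS} (hs : s ∈ D.cen) {k : ℕ} (hk : k < 311) (hb : blk k = 3)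
    (hss : s * s = D.l k) : False := by
  haveI := finite_HS
  haveI : Fact (Nat.Prime 2) := ⟨Nat.prime_two⟩
  let P : Sylow 2 Spor.HS := Sylow.ofCard D.syl (by rw [D.card_syl, factor_two_HS]; norm_num)
  let s' : ↥D.cen := ⟨s, hs⟩
  have h4 : s' ^ 2 ^ 2 = 1 := Subtype.ext (by
    show s ^ 2 ^ 2 = 1
    rw [show (2 : ℕ) ^ 2 = 2 * 2 from rfl, pow_mul, pow_two s, hss, pow_two, (D.l_sq hk).1])
  have hP : IsPGroup 2 ↥(Subgroup.zpowers s') := by
    intro y
    obtain ⟨i, hi⟩ := Subgroup.mem_zpowers_iff.1 y.2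
    refine ⟨2, Subtype.ext ?_⟩
    rw [Subgroup.coe_pow, ← hi, ← zpow_natCast (s' ^ i), zpow_comm, zpow_natCast, h4, one_zpow]
    rfl
  obtain ⟨T, hT⟩ := hP.exists_le_sylow
  obtain ⟨c, hc⟩ := MulAction.exists_smul_eq ↥D.cen T (P.subtype (show (P : Subgroup Spor.HS) ≤ D.cen from D.syl_le_cen))
  have h1 : c * s' * c⁻¹ ∈ (P.subtype (show (P : Subgroup Spor.HS) ≤ D.cen from D.syl_le_cen) : Subgroup ↥D.cen) := by
    rw [← hc, Sylow.coe_subgroup_smul, Subgroup.mem_pointwise_smul_iff_inv_smul_mem]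
    simpa [mul_assoc] using hT (Subgroup.mem_zpowers s')
  rw [Sylow.coe_subtype, Subgroup.mem_subgroupOf] at h1
  obtain ⟨m, hm, e⟩ := D.eq_x_of_mem (show (c : Spor.HS) * s * (c : Spor.HS)⁻¹ ∈ D.syl from h1)
  obtain ⟨j, hj, hjb, ej⟩ := D.conj_cen c.2 hk
  obtain ⟨hn, hsq, hnot⟩ := D.x_sq hm
  have hx : D.x (Data.xSq.getD m 0) = D.l j := by
    rw [← hsq, e, ← ej, ← hss]; group
  obtain ⟨hi, ei⟩ := D.x_involution hn (by rw [hx]; exact (D.l_sq hj).1) (by rw [hx]; exact (D.l_sq hj).2)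
  have := D.l_inj hi hj (ei.trans hx)
  refine hnot ?_
  rw [this]
  rcases blk_cases j with ⟨e', -⟩ | ⟨e', -⟩ | ⟨e', -⟩ | ⟨e', h⟩ | ⟨e', -⟩ <;> first | omega | exact ⟨h.1, h.2⟩

theorem classSize : ∀ b < 5, ((Finset.range 311).filter fun k => blk k = b).card = [1, 30, 80, 120, 80].getD b 0 := by
  decide +kernel

section Cent

variable (hC : Nat.card ↥(Subgroup.centralizer ({D.l 0} : Set Spor.HS)) ≤ 7680)

include hC

theorem Gen.cent_eq : Subgroup.centralizer ({D.l 0} : Set Spor.HS) = D.cen := by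
  haveI := finite_HS
  exact (Subgroup.eq_of_le_of_card_ge D.cen_le (hC.trans D.card_cen_ge)).symm

theorem Gen.mem_cen_of_comm {g : Spor.HS} (h : g * D.l 0 = D.l 0 * g) : g ∈ D.cen :=
  D.cent_eq hC ▸ Subgroup.mem_centralizer_singleton_iff.2 h

theorem Gen.exists_eq_l {x : Spor.HS} (h2 : orderOf x = 2) (hx : x * D.l 0 = D.l 0 * x) :
    ∃ k < 311, x = D.l k := by
  obtain ⟨c, hc, j, hj, e⟩ := D.exists_conj_l D.syl_le_cen (D.mem_cen_of_comm hC hx) h2
  obtain ⟨k, hk, -, e'⟩ := D.conj_cen (inv_mem hc) hj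
  exact ⟨k, hk, by rw [← e', ← e]; group⟩

theorem Gen.jointCard_mul {k : ℕ} (hk : k < 311) :
    jointCard (D.l 0) (D.l k) * [1, 30, 80, 120, 80].getD (blk k) 0 = 7680 := by
  classical
  haveI := finite_HS
  have hcard : Nat.card ↥D.cen = 7680 :=
    le_antisymm ((Subgroup.card_le_of_le D.cen_le).trans hC) D.card_cen_ge
  letI : MulAction ↥D.cen Spor.HS := MulAction.compHom _ (MulAut.conj.comp D.cen.subtype)
  have hact : ∀ (c : ↥D.cen) (y : Spor.HS), c • y = (c : Spor.HS) * y * (c : Spor.HS)⁻¹ := fun _ _ => rfl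
  have horb : MulAction.orbit ↥D.cen (D.l k) =
      D.l '' (((Finset.range 311).filter fun i => blk i = blk k : Finset ℕ) : Set ℕ) := by
    ext y
    simp only [MulAction.mem_orbit_iff, hact, Set.mem_image, Finset.coe_filter, Finset.mem_range, Set.mem_setOf_eq]
    constructor
    · rintro ⟨⟨c, hc⟩, rfl⟩
      obtain ⟨i, hi, hb, e⟩ := D.conj_cen hc hk
      exact ⟨i, ⟨hi, hb⟩, e.symm⟩
    · rintro ⟨i, ⟨hi, hb⟩, rfl⟩
      obtain ⟨c, hc, e⟩ := D.l_conj hi
      obtain ⟨d, hd, e'⟩ := D.l_conj hk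
      refine ⟨⟨c * d⁻¹, mul_mem hc (inv_mem hd)⟩, ?_⟩
      show c * d⁻¹ * D.l k * (c * d⁻¹)⁻¹ = D.l i
      rw [← e', ← e, rep, rep, hb]
      group
  have hst : Nat.card ↥(MulAction.stabilizer ↥D.cen (D.l k)) = jointCard (D.l 0) (D.l k) :=
    Nat.card_congr
      ⟨fun c => ⟨(c.1 : Spor.HS), Subgroup.mem_centralizer_singleton_iff.1 (D.cen_le c.1.2),
          mul_inv_eq_iff_eq_mul.1 ((hact c.1 (D.l k)).symm.trans c.2)⟩,
       fun g => ⟨⟨g.1, D.mem_cen_of_comm hC g.2.1⟩, (hact _ _).trans (mul_inv_eq_iff_eq_mul.2 g.2.2)⟩,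
       fun _ => rfl, fun _ => rfl⟩
  have h := (MulAction.stabilizer ↥D.cen (D.l k)).card_mul_index
  rw [MulAction.index_stabilizer, horb, hst, hcard, Set.InjOn.ncard_image, Set.ncard_coe_finset,
    classSize _ (blk_lt k)] at h
  · exact h
  · intro a ha b hb e
    simp only [Finset.coe_filter, Finset.mem_range, Set.mem_setOf_eq] at ha hb
    exact D.l_inj ha.1 hb.1 e

theorem Gen.endgame : Endgame (⊤ : Subgroup Spor.HS) (D.l 0) (D.l 111) (D.l 231) := by
  haveI := finite_HS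
  have h := misc_ok
  simp only [miscB, Bool.and_eq_true, Bool.not_eq_true', decide_eq_true_eq] at h
  obtain ⟨⟨⟨⟨⟨⟨⟨⟨⟨-, -⟩, hnu⟩, htu⟩, hs⟩, hsw⟩, -⟩, -⟩, -⟩, -⟩ := h
  have hw : jointCard (D.l 0) (D.l 111) * 120 = 7680 := by
    simpa [blk] using D.jointCard_mul hC (k := 111) (by norm_num)
  have hu : jointCard (D.l 0) (D.l 231) * 80 = 7680 := by
    simpa [blk] using D.jointCard_mul hC (k := 231) (by norm_num)
  have hclass : ∀ x : Spor.HS, orderOf x = 2 → x * D.l 0 = D.l 0 * x →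
      jointCard (D.l 0) x = jointCard (D.l 0) (D.l 111) → ∃ k < 311, blk k = 3 ∧ x = D.l k := by
    intro x hx hxt hj
    obtain ⟨k, hk, rfl⟩ := D.exists_eq_l hC hx hxt
    refine ⟨k, hk, ?_, rfl⟩
    have := D.jointCard_mul hC hk
    rw [hj] at this
    rcases blk_cases k with ⟨e, -⟩ | ⟨e, -⟩ | ⟨e, -⟩ | ⟨e, -⟩ | ⟨e, -⟩ <;> simp [e] at this ⊢ <;> omega
  have hcomm : ∀ k < 311, D.l k * D.l 0 = D.l 0 * D.l k := fun k hk => by
    obtain ⟨c, hc, e⟩ := D.l_conj hk
    have hr : D.l (rep k) ∈ D.cen := by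
      rw [D.l_rep (show starts.contains (rep k) = true from (repX_lt _ (blk_lt k)).2.2) (rep_spec hk).2.1]
      exact D.syl_le_cen (D.x_mem _)
    rw [← e]
    exact Subgroup.mem_centralizer_singleton_iff.1 (D.cen_le (mul_mem (mul_mem hc hr) (inv_mem hc)))
  refine ⟨D.orderOf_l (by norm_num), fun g _ => Subgroup.mem_top g,
    fun x _ hx => (D.two hx).imp (fun ⟨g, hg⟩ => ⟨g, Subgroup.mem_top g, hg⟩)
      (fun ⟨g, hg⟩ => ⟨g, Subgroup.mem_top g, hg⟩), ?_, ?_, ?_, D.orderOf_l (by norm_num), hcomm 111 (by norm_num),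
    hcomm 231 (by norm_num), ?_, ?_, by omega, ?_⟩
  · refine ⟨D.x 48, Subgroup.mem_centralizer_singleton_iff.1 (D.cen_le (D.syl_le_cen (D.x_mem _))),
      (D.x_is (by norm_num)).mul_eq_mul (D.l_is (by norm_num)) (D.l_is (by norm_num)) (D.x_is (by norm_num)) hsw, ?_⟩
    rw [(D.x_sq (m := 48) (by norm_num)).2.1, hs, D.l_rep (k := 0) rfl (by norm_num)]
    rfl
  · rintro x hx hxt hj ⟨s, hst, -, hss⟩
    obtain ⟨k, hk, hb, rfl⟩ := hclass x hx hxt hj
    exact D.no_root (D.mem_cen_of_comm hC hst) hk hb hss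
  · intro x hx hxt hj
    obtain ⟨k, hk, hb, rfl⟩ := hclass x hx hxt hj
    obtain ⟨c, hc, e⟩ := D.l_conj hk
    rw [rep, hb] at e
    exact ⟨c⁻¹, Subgroup.mem_centralizer_singleton_iff.1 (D.cen_le (inv_mem hc)), by
      rw [← e]; show c⁻¹ * (c * D.l 111 * c⁻¹) * c⁻¹⁻¹ = D.l 111; group⟩
  · rcases D.two (D.orderOf_l (k := 231) (by norm_num)) with ⟨g, hg⟩ | ⟨g, hg⟩
    · exfalso
      have hf : Fx R (D.l 231) := by
        rw [← hg, fx_conj, fx_is (D.l_is (by norm_num))]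
        have := misc_ok
        simp only [miscB, Bool.and_eq_true] at this
        exact this.1.1.1.1.1.1.1.1.1
      rw [fx_is (D.l_is (by norm_num)), hnu] at hf
      exact Bool.noConfusion hf
    · exact ⟨g, Subgroup.mem_top g, hg⟩
  · have e : D.l 0 * D.l 231 = D.l 247 :=
      (D.l_is (by norm_num)).mul_eq (D.l_is (by norm_num)) (D.l_is (by norm_num)) htu
    rw [e]
    rcases D.two (D.orderOf_l (k := 247) (by norm_num)) with ⟨g, hg⟩ | ⟨g, hg⟩
    · exfalso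
      obtain ⟨c, -, hc⟩ := D.l_conj (k := 247) (by norm_num)
      rw [show rep 247 = 231 from rfl] at hc
      have hf : Fx R (D.l 247) := by
        rw [← hg, fx_conj, fx_is (D.l_is (by norm_num))]
        have := misc_ok
        simp only [miscB, Bool.and_eq_true] at this
        exact this.1.1.1.1.1.1.1.1.1
      rw [← hc, fx_conj, fx_is (D.l_is (by norm_num)), hnu] at hf
      exact Bool.noConfusion hf
    · exact ⟨g, Subgroup.mem_top g, hg⟩
  · intro z hz hzt hzu hne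
    obtain ⟨j, hj, rfl⟩ := D.exists_eq_l hC hz hzt
    have hm := mid_ok
    simp only [midB, List.all_eq_true, List.mem_range, Bool.or_eq_true, beq_iff_eq, Bool.not_eq_true'] at hm
    rcases hm j hj with ((e | e) | e) | e
    · exact absurd (by rw [e]) hne
    · refine absurd (List.all_eq_true.2 fun i _ => decide_eq_true ?_) (Bool.eq_false_iff.1 e)
      show app (lp j) (app (lp 231) i) = app (lp 231) (app (lp j) i)
      rw [← (D.l_is hj).mul_app (D.l_is (by norm_num)) i, hzu, (D.l_is (by norm_num)).mul_app (D.l_is hj) i]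
    · obtain ⟨g, hg⟩ := D.conj_of_fx hz ((fx_is (D.l_is hj)).2 e)
      exact Or.inl ⟨g, Subgroup.mem_top g, hg⟩
    · refine Or.inr ?_
      obtain ⟨i, hi⟩ := of_fixB.1 e
      have h2 : orderOf (D.l j * D.l 231) = 2 := Basic.orderOf_two_iff.2 ⟨by
        rw [show D.l j * D.l 231 * (D.l j * D.l 231) = D.l j * (D.l 231 * D.l j) * D.l 231 by group, ← hzu,
          show D.l j * (D.l j * D.l 231) * D.l 231 = D.l j * D.l j * (D.l 231 * D.l 231) by group,
          (D.l_sq hj).1, (D.l_sq (k := 231) (by norm_num)).1, one_mul],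
        fun e1 => hne (by rw [eq_inv_of_mul_eq_one_left e1, Basic.inv_eq (D.orderOf_l (by norm_num))])⟩
      obtain ⟨g, hg⟩ := D.conj_of_fx h2 ⟨i, ((D.l_is hj).mul_app (D.l_is (by norm_num)) i).trans hi⟩
      exact ⟨g, Subgroup.mem_top g, hg⟩

end Cent

end Cfsg.Agent.HSLocal.Finish
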