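import Cfsg.Agent.Lib.HSLocal.Finish.Defs

set_option autoImplicit false
set_option maxRecDepth 100000

namespace Cfsg.Agent.HSLocal.Finish

theorem lTr_ok0 : lTrB 0 20 = true := by decide +kernel
theorem lTr_ok20 : lTrB 20 20 = true := by decide +kernel
theorem lTr_ok40 : lTrB 40 20 = true := by decide +kernel
theorem lTr_ok60 : lTrB 60 20 = true := by decide +kernel

end Cfsg.Agent.HSLocal.Finish
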