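import Cfsg.Agent.Lib.HSLocal.Finish.Defs

set_option autoImplicit false
set_option maxRecDepth 100000

namespace Cfsg.Agent.HSLocal.Finish

theorem lTr_ok80 : lTrB 80 20 = true := by decide +kernel
theorem lTr_ok100 : lTrB 100 20 = true := by decide +kernel
theorem lTr_ok120 : lTrB 120 20 = true := by decide +kernel
theorem lTr_ok140 : lTrB 140 20 = true := by decide +kernel

end Cfsg.Agent.HSLocal.Finish
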