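import Cfsg.Agent.Lib.HSLocal.Finish.Defs

set_option autoImplicit false
set_option maxRecDepth 100000

namespace Cfsg.Agent.HSLocal.Finish

theorem lTr_ok160 : lTrB 160 20 = true := by decide +kernel
theorem lTr_ok180 : lTrB 180 20 = true := by decide +kernel
theorem lTr_ok200 : lTrB 200 20 = true := by decide +kernel
theorem lTr_ok220 : lTrB 220 20 = true := by decide +kernel

end Cfsg.Agent.HSLocal.Finish
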