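import Cfsg.Agent.Lib.HSLocal.Finish.Checks
import Cfsg.Agent.Lib.HSLocal.Finish.Orbit1
import Cfsg.Agent.Lib.HSLocal.Finish.Orbit2
import Cfsg.Agent.Lib.HSLocal.Finish.Orbit3
import Cfsg.Agent.Lib.HSLocal.Finish.Orbit4
import Cfsg.Agent.Lib.PcMult.Split

/-!
# The Sylow 2-subgroup and the involutions of a centralizer in the Higman-Sims group

The elements behind the packed data of `Finish.Data`.
-/

set_option autoImplicit false
set_option maxRecDepth 100000
set_option linter.unusedSectionVars false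

namespace Cfsg.Agent.HSLocal.Finish

open Cfsg Cfsg.Agent.Lib.HSMult Cfsg.Agent.Lib.PcMult

theorem of_sameB {f h : Fin 100 → Fin 100} (e : sameB f h = true) (i : Fin 100) : f i = h i :=
  of_decide_eq_true (List.all_eq_true.1 e i (List.mem_finRange i))

theorem of_fixB {f : Fin 100 → Fin 100} : fixB f = true ↔ ∃ i, f i = i := by
  simp [fixB]

theorem pairwise_of_incB : ∀ l : List ℕ, incB l = true → l.Pairwise (· < ·)
  | [], _ => List.Pairwise.nil
  | [_], _ => List.pairwise_singleton _ _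
  | a :: b :: l, h => by
    simp only [incB, Bool.and_eq_true, decide_eq_true_eq] at h
    have ih := pairwise_of_incB (b :: l) h.2
    refine List.pairwise_cons.2 ⟨fun x hx => ?_, ih⟩
    rcases List.mem_cons.1 hx with rfl | hx
    · exact h.1
    · exact h.1.trans ((List.pairwise_cons.1 ih).1 x hx)

theorem inj_of_codes {f : ℕ → ℕ} {l : List ℕ} (h : incB (l.map f) = true) {a b : ℕ} (ha : a ∈ l) (hb : b ∈ l)
    (e : f a = f b) : a = b :=
  List.inj_on_of_nodup_map ((pairwise_of_incB _ h).imp fun hlt => ne_of_lt hlt) ha hb e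

theorem code_congr (bs : List (Fin 100)) {N M : ℕ} (h : ∀ i, app N i = app M i) : code bs N = code bs M := by
  simp [code, h]

/-- The generators realised in the model. -/
structure Gen (R : Lib.HSMult.Real) where
  g : ℕ → Spor.HS
  spec : ∀ k < 14, ∀ i, R.φ (g k) i = app (gp k) i

theorem nonempty_gen (R : Lib.HSMult.Real) : Nonempty (Gen R) := by
  obtain ⟨g, hg⟩ := exists_elements R genB
  exact ⟨⟨g, fun k hk => hg k (by simpa [Data.genP] using hk)⟩⟩

variable {R : Lib.HSMult.Real} (D : Gen R)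

/-- `x` is the packed permutation `N`. -/
def Is (R : Lib.HSMult.Real) (x : Spor.HS) (N : ℕ) : Prop := ∀ i, R.φ x i = app N i

theorem Is.eq {x y : Spor.HS} {N : ℕ} (hx : Is R x N) (hy : Is R y N) : x = y :=
  R.inj (Equiv.ext fun i => (hx i).trans (hy i).symm)

theorem Is.mul_app {x y : Spor.HS} {N M : ℕ} (hx : Is R x N) (hy : Is R y M) (i : Fin 100) :
    R.φ (x * y) i = app N (app M i) := by
  rw [map_mul, Equiv.Perm.mul_apply, hy, hx]

theorem Is.mul_eq {x y z : Spor.HS} {N M K : ℕ} (hx : Is R x N) (hy : Is R y M) (hz : Is R z K)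
    (h : sameB (fun i => app N (app M i)) (app K) = true) : x * y = z :=
  R.inj (Equiv.ext fun i => (hx.mul_app hy i).trans ((of_sameB h i).trans (hz i).symm))

theorem Is.mul_eq_mul {x y z w : Spor.HS} {N M K L : ℕ} (hx : Is R x N) (hy : Is R y M) (hz : Is R z K)
    (hw : Is R w L) (h : sameB (fun i => app N (app M i)) (fun i => app K (app L i)) = true) : x * y = z * w :=
  R.inj (Equiv.ext fun i => (hx.mul_app hy i).trans ((of_sameB h i).trans (hz.mul_app hw i).symm))

theorem Gen.is (k : ℕ) (hk : k < 14) : Is R (D.g k) (gp k) := D.spec k hk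

/-! ### The Sylow subgroup -/

/-- The Sylow 2-subgroup. -/
def Gen.syl : Subgroup Spor.HS := Subgroup.closure (D.g '' Set.Ico 0 9)

theorem Gen.g_mem_syl {k : ℕ} (hk : k < 9) : D.g k ∈ D.syl :=
  Subgroup.subset_closure ⟨k, ⟨Nat.zero_le k, hk⟩, rfl⟩

theorem Gen.exists_x : ∀ m < 512, ∃ x ∈ D.syl, Is R x (xp m) := by
  intro m
  induction m using Nat.strong_induction_on with
  | _ m ih =>
    intro hm
    have h := xTree_ok
    simp only [xTreeB, Bool.and_eq_true, List.all_eq_true, List.mem_range'_1, decide_eq_true_eq] at h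
    rcases Nat.eq_zero_or_pos m with rfl | hm0
    · exact ⟨1, one_mem _, fun i => by rw [map_one, of_sameB h.1 i]; rfl⟩
    obtain ⟨⟨hp1, hp2⟩, hs⟩ := h.2 m ⟨hm0, by omega⟩
    obtain ⟨x, hx, hxi⟩ := ih _ hp2 (by omega)
    refine ⟨D.g (Data.xPar.getD m (0, 0)).1 * x, mul_mem (D.g_mem_syl hp1) hx, fun i => ?_⟩
    rw [(D.is _ (by omega)).mul_app hxi, of_sameB hs i]

/-- The element at a Sylow index. -/
noncomputable def Gen.x (m : ℕ) : Spor.HS :=
  if hm : m < 512 then (D.exists_x m hm).choose else 1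

theorem Gen.x_mem (m : ℕ) : D.x m ∈ D.syl := by
  rw [Gen.x]
  split_ifs with hm
  · exact (D.exists_x m hm).choose_spec.1
  · exact one_mem _

theorem Gen.x_is {m : ℕ} (hm : m < 512) : Is R (D.x m) (xp m) := by
  rw [Gen.x, dif_pos hm]
  exact (D.exists_x m hm).choose_spec.2

theorem Gen.x_inj {m k : ℕ} (hm : m < 512) (hk : k < 512) (e : D.x m = D.x k) : m = k := by
  have h := xNodup_ok
  simp only [xNodupB, Bool.and_eq_true, List.all_eq_true, List.mem_range] at h
  refine inj_of_codes h.1 (List.contains_iff_mem.1 (h.2 m hm)) (List.contains_iff_mem.1 (h.2 k hk))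
    (code_congr _ fun i => ?_)
  rw [← D.x_is hm i, ← D.x_is hk i, e]

theorem Gen.x_zero : D.x 0 = 1 := by
  have h := xTree_ok
  simp only [xTreeB, Bool.and_eq_true] at h
  refine R.inj (Equiv.ext fun i => ?_)
  rw [D.x_is (by norm_num) i, of_sameB h.1 i, map_one]
  rfl

theorem Gen.card_syl_le : Nat.card ↥D.syl ≤ 512 := by
  have h := pc_ok
  simp only [pcB, Bool.and_eq_true, List.all_eq_true, List.mem_range, List.mem_range'_1,
    decide_eq_true_eq] at h
  have hg : ∀ k < Data.genP.length, ∀ i, R.φ (D.g k) i = app (Data.genP.getD k 0) i := fun k hk =>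
    D.spec k (by simpa [Data.genP] using hk)
  haveI := finite_HS
  refine le_of_le_of_eq (card_closure_le (R := Lib.HSMult.Data.RTwo) (Y := D.g) (by decide)
    (fun i hi => ?_) (fun i j hij hj => ?_) (fun i hi => ⟨(h i hi).1.2, fun j hij hj => ?_⟩) 9 le_rfl) rfl
  · rw [← W_replicate]
    exact of_eqB R hg (h i hi).1.1
  · have := of_eqB R hg ((h i (hij.trans hj)).2 j ⟨hij, by
      have : Lib.HSMult.Data.RTwo.n = 9 := rfl
      omega⟩).1
    rwa [W_cons, W_cons, W_nil, mul_one, W_cons] at this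
  · exact ((h i hi).2 j ⟨hij, by
      have : Lib.HSMult.Data.RTwo.n = 9 := rfl
      omega⟩).2

theorem Gen.eq_x_of_mem {y : Spor.HS} (hy : y ∈ D.syl) : ∃ m < 512, D.x m = y := by
  classical
  haveI := finite_HS
  haveI := Fintype.ofFinite ↥D.syl
  let f : Fin 512 → ↥D.syl := fun m => ⟨D.x m, D.x_mem m⟩
  have hf : Function.Injective f := fun a b e => Fin.ext (D.x_inj a.2 b.2 (congrArg Subtype.val e))
  obtain ⟨m, hm⟩ := ((Fintype.bijective_iff_injective_and_card f).2 ⟨hf, le_antisymm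
    (Fintype.card_le_of_injective f hf) (by rw [Fintype.card_fin, ← Nat.card_eq_fintype_card]; exact D.card_syl_le)⟩).2 ⟨y, hy⟩
  exact ⟨m, m.2, congrArg Subtype.val hm⟩

theorem Gen.card_syl : Nat.card ↥D.syl = 512 := by
  haveI := finite_HS
  refine le_antisymm D.card_syl_le ?_
  have := Nat.card_le_card_of_injective (fun m : Fin 512 => (⟨D.x m, D.x_mem m⟩ : ↥D.syl))
    fun a b e => Fin.ext (D.x_inj a.2 b.2 (congrArg Subtype.val e))
  simpa using this

/-! ### The involutions of the centralizer -/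

theorem lTr_range {k : ℕ} (hk : k < 311) {j : ℕ} (hj : j < 11) :
    ((Data.lTr.getD k []).getD j 311 < 311 ∧ blk ((Data.lTr.getD k []).getD j 311) = blk k) ∧
      sameB (fun i => app (gp j) (app (lp k) i))
        (fun i => app (lp ((Data.lTr.getD k []).getD j 311)) (app (gp j) i)) = true := by
  have key : ∀ lo n, lTrB lo n = true → lo ≤ k → k < lo + n → _ ∧ _ := fun lo n h h1 h2 => by
    simp only [lTrB, List.all_eq_true, List.mem_range'_1, List.mem_range, Bool.and_eq_true,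
      decide_eq_true_eq] at h
    exact h k ⟨h1, h2⟩ j hj
  by_cases h20 : k < 20; · exact key 0 20 lTr_ok0 (by omega) (by omega)
  by_cases h40 : k < 40; · exact key 20 20 lTr_ok20 (by omega) (by omega)
  by_cases h60 : k < 60; · exact key 40 20 lTr_ok40 (by omega) (by omega)
  by_cases h80 : k < 80; · exact key 60 20 lTr_ok60 (by omega) (by omega)
  by_cases h100 : k < 100; · exact key 80 20 lTr_ok80 (by omega) (by omega)
  by_cases h120 : k < 120; · exact key 100 20 lTr_ok100 (by omega) (by omega)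
  by_cases h140 : k < 140; · exact key 120 20 lTr_ok120 (by omega) (by omega)
  by_cases h160 : k < 160; · exact key 140 20 lTr_ok140 (by omega) (by omega)
  by_cases h180 : k < 180; · exact key 160 20 lTr_ok160 (by omega) (by omega)
  by_cases h200 : k < 200; · exact key 180 20 lTr_ok180 (by omega) (by omega)
  by_cases h220 : k < 220; · exact key 200 20 lTr_ok200 (by omega) (by omega)
  by_cases h240 : k < 240; · exact key 220 20 lTr_ok220 (by omega) (by omega)
  by_cases h260 : k < 260; · exact key 240 20 lTr_ok240 (by omega) (by omega)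
  by_cases h280 : k < 280; · exact key 260 20 lTr_ok260 (by omega) (by omega)
  by_cases h300 : k < 300; · exact key 280 20 lTr_ok280 (by omega) (by omega)
  exact key 300 11 lTr_ok300 (by omega) (by omega)

/-- The eleven generators of the centralizer. -/
def Gen.cen : Subgroup Spor.HS := Subgroup.closure (D.g '' Set.Ico 0 11)

theorem Gen.g_mem_cen {k : ℕ} (hk : k < 11) : D.g k ∈ D.cen :=
  Subgroup.subset_closure ⟨k, ⟨Nat.zero_le k, hk⟩, rfl⟩

theorem Gen.syl_le_cen : D.syl ≤ D.cen :=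
  Subgroup.closure_mono (Set.image_mono (Set.Ico_subset_Ico_right (by norm_num)))

/-- The first index of the class of `k`. -/
def rep (k : ℕ) : ℕ := starts.getD (blk k) 0

theorem blk_cases (k : ℕ) : blk k = 0 ∧ k < 1 ∨ blk k = 1 ∧ 1 ≤ k ∧ k < 31 ∨ blk k = 2 ∧ 31 ≤ k ∧ k < 111 ∨
    blk k = 3 ∧ 111 ≤ k ∧ k < 231 ∨ blk k = 4 ∧ 231 ≤ k := by
  unfold blk
  split_ifs <;> omega

theorem blk_lt (k : ℕ) : blk k < 5 := by
  rcases blk_cases k with ⟨e, -⟩ | ⟨e, -⟩ | ⟨e, -⟩ | ⟨e, -⟩ | ⟨e, -⟩ <;> omega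

theorem repX_lt : ∀ b < 5, repX.getD b 0 < 512 ∧ repX.getD b 0 ∈ repX ∧ starts.contains (starts.getD b 0) = true := by
  decide

theorem rep_spec {k : ℕ} (hk : k < 311) : rep k ≤ k ∧ rep k < 311 ∧ blk (rep k) = blk k := by
  rcases blk_cases k with ⟨e, h⟩ | ⟨e, h⟩ | ⟨e, h⟩ | ⟨e, h⟩ | ⟨e, h⟩ <;>
    (unfold rep; rw [e]; refine ⟨?_, ?_, ?_⟩ <;> norm_num [starts, blk] <;> omega)

theorem Gen.exists_l : ∀ k < 311, ∃ x, Is R x (lp k) ∧ ∃ c ∈ D.cen, c * D.x (repX.getD (blk k) 0) * c⁻¹ = x := by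
  intro k
  induction k using Nat.strong_induction_on with
  | _ k ih =>
    intro hk
    have h := lPar_ok
    simp only [lParB, List.all_eq_true, List.mem_range] at h
    have h1 := h k hk
    by_cases hs : starts.contains k = true
    · rw [if_pos hs] at h1
      have hr : repX.getD (blk k) 0 < 512 := (repX_lt _ (blk_lt k)).1
      refine ⟨D.x (repX.getD (blk k) 0), fun i => ?_, 1, one_mem _, by group⟩
      rw [D.x_is hr i, of_sameB h1 i]
    rw [if_neg hs, decide_eq_true_eq] at h1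
    obtain ⟨hp1, hp2, hp3⟩ := h1
    obtain ⟨x, hx, c, hc, hcx⟩ := ih _ hp1 (by omega)
    obtain ⟨⟨-, hb⟩, he⟩ := lTr_range (k := (Data.lPar.getD k (0, 0)).1) (by omega) hp2
    rw [hp3] at he hb
    refine ⟨D.g (Data.lPar.getD k (0, 0)).2 * x * (D.g (Data.lPar.getD k (0, 0)).2)⁻¹, fun i => ?_,
      D.g (Data.lPar.getD k (0, 0)).2 * c, mul_mem (D.g_mem_cen hp2) hc, by rw [hb, ← hcx]; group⟩
    obtain ⟨j, rfl⟩ := (R.φ (D.g (Data.lPar.getD k (0, 0)).2)).surjective i
    rw [← Equiv.Perm.mul_apply, ← map_mul, inv_mul_cancel_right, (D.is _ (by omega)).mul_app hx,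
      of_sameB he j, D.is _ (by omega) j]

/-- The involution at an index. -/
noncomputable def Gen.l (k : ℕ) : Spor.HS := if hk : k < 311 then (D.exists_l k hk).choose else 1

theorem Gen.l_is {k : ℕ} (hk : k < 311) : Is R (D.l k) (lp k) := by
  rw [Gen.l, dif_pos hk]
  exact (D.exists_l k hk).choose_spec.1

theorem Gen.l_inj {a b : ℕ} (ha : a < 311) (hb : b < 311) (e : D.l a = D.l b) : a = b := by
  have h := lNodup_ok
  simp only [lNodupB, Bool.and_eq_true, List.all_eq_true, List.mem_range] at h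
  refine inj_of_codes h.1 (List.contains_iff_mem.1 (h.2 a ha)) (List.contains_iff_mem.1 (h.2 b hb))
    (code_congr _ fun i => ?_)
  rw [← D.l_is ha i, ← D.l_is hb i, e]

theorem Gen.l_conj {k : ℕ} (hk : k < 311) : ∃ c ∈ D.cen, c * D.l (rep k) * c⁻¹ = D.l k := by
  obtain ⟨h1, h2, h3⟩ := rep_spec hk
  obtain ⟨c, hc, hcx⟩ := (D.exists_l k hk).choose_spec.2
  obtain ⟨c', hc', hcx'⟩ := (D.exists_l (rep k) h2).choose_spec.2
  refine ⟨c * c'⁻¹, mul_mem hc (inv_mem hc'), ?_⟩
  rw [Gen.l, dif_pos h2, Gen.l, dif_pos hk, ← hcx, ← hcx', h3]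
  group

theorem Gen.l_rep {k : ℕ} (hk : starts.contains k = true) (hk' : k < 311) :
    D.l k = D.x (repX.getD (blk k) 0) := by
  have h := lPar_ok
  simp only [lParB, List.all_eq_true, List.mem_range] at h
  have h1 := h k hk'
  rw [if_pos hk] at h1
  have hr : repX.getD (blk k) 0 < 512 := (repX_lt _ (blk_lt k)).1
  exact R.inj (Equiv.ext fun i => (D.l_is hk' i).trans ((of_sameB h1 i).trans (D.x_is hr i).symm))

theorem Gen.conj_g {k : ℕ} (hk : k < 311) {j : ℕ} (hj : j < 11) :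
    ∃ k' < 311, blk k' = blk k ∧ D.g j * D.l k * (D.g j)⁻¹ = D.l k' := by
  obtain ⟨⟨h1, h2⟩, h3⟩ := lTr_range hk hj
  refine ⟨_, h1, h2, ?_⟩
  rw [(D.is j (by omega)).mul_eq_mul (D.l_is hk) (D.l_is h1) (D.is j (by omega)) h3, mul_inv_cancel_right]

theorem Gen.conj_cen {c : Spor.HS} (hc : c ∈ D.cen) {k : ℕ} (hk : k < 311) :
    ∃ k' < 311, blk k' = blk k ∧ c * D.l k * c⁻¹ = D.l k' := by
  haveI := finite_HS
  rw [Gen.cen, ← Subgroup.mem_toSubmonoid, Subgroup.closure_toSubmonoid_of_finite] at hc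
  induction hc using Submonoid.closure_induction generalizing k with
  | mem x hx =>
    obtain ⟨j, hj, rfl⟩ := hx
    exact D.conj_g hk hj.2
  | one => exact ⟨k, hk, rfl, by group⟩
  | mul x y _ _ ihx ihy =>
    obtain ⟨k1, h1, hb1, e1⟩ := ihy hk
    obtain ⟨k2, h2, hb2, e2⟩ := ihx h1
    exact ⟨k2, h2, hb2.trans hb1, by rw [← e2, ← e1]; group⟩

theorem Gen.l_sq {k : ℕ} (hk : k < 311) : D.l k * D.l k = 1 ∧ D.l k ≠ 1 := by
  obtain ⟨c, -, e⟩ := D.l_conj hk
  have hr := rep_spec hk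
  have hs : starts.contains (rep k) = true := (repX_lt _ (blk_lt k)).2.2
  have h := rep_ok
  simp only [repB, Bool.and_eq_true, List.all_eq_true, decide_eq_true_eq] at h
  have hm : repX.getD (blk (rep k)) 0 ∈ repX := (repX_lt _ (blk_lt _)).2.1
  obtain ⟨hm0, hm1, hm2⟩ := h.1.1.1 _ hm
  have hsq := xSq_ok
  simp only [xSqB, Bool.and_eq_true, List.all_eq_true, List.mem_range, decide_eq_true_eq] at hsq
  have h2 := (hsq _ hm1).1.1.2
  rw [hm2] at h2
  have hl := D.l_rep hs hr.2.1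
  have hxx : D.x (repX.getD (blk (rep k)) 0) * D.x (repX.getD (blk (rep k)) 0) = 1 := by
    rw [← D.x_zero]
    refine R.inj (Equiv.ext fun i => ?_)
    rw [(D.x_is hm1).mul_app (D.x_is hm1), D.x_is (by norm_num) i, of_sameB h2 i]
  refine ⟨?_, ?_⟩
  · rw [← e, show c * D.l (rep k) * c⁻¹ * (c * D.l (rep k) * c⁻¹) =
      c * (D.l (rep k) * D.l (rep k)) * c⁻¹ by group, hl, hxx]
    group
  · intro e1
    rw [e1, conj_eq_one_iff, hl, ← D.x_zero] at e
    exact hm0.ne' (D.x_inj hm1 (by norm_num) e)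

/-- The square of a Sylow element, and the place of an involution. -/
theorem Gen.x_sq {m : ℕ} (hm : m < 512) :
    Data.xSq.getD m 0 < 512 ∧ D.x m * D.x m = D.x (Data.xSq.getD m 0) ∧
      ¬ (111 ≤ Data.xInv.getD (Data.xSq.getD m 0) 311 ∧ Data.xInv.getD (Data.xSq.getD m 0) 311 < 231) := by
  have h := xSq_ok
  simp only [xSqB, Bool.and_eq_true, List.all_eq_true, List.mem_range, decide_eq_true_eq] at h
  obtain ⟨⟨⟨h1, h2⟩, -⟩, h4⟩ := h m hm
  exact ⟨h1, R.inj (Equiv.ext fun i =>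
    ((D.x_is hm).mul_app (D.x_is hm) i).trans ((of_sameB h2 i).symm.trans (D.x_is h1 i).symm)), h4⟩

theorem Gen.x_involution {m : ℕ} (hm : m < 512) (h1 : D.x m * D.x m = 1) (h2 : D.x m ≠ 1) :
    Data.xInv.getD m 311 < 311 ∧ D.l (Data.xInv.getD m 311) = D.x m := by
  have h := xSq_ok
  simp only [xSqB, Bool.and_eq_true, List.all_eq_true, List.mem_range, decide_eq_true_eq, Bool.or_eq_true,
    bne_iff_ne, beq_iff_eq] at h
  obtain ⟨⟨-, h3⟩, -⟩ := h m hm
  obtain ⟨hk, hsq, -⟩ := D.x_sq hm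
  have hz : Data.xSq.getD m 0 = 0 := D.x_inj hk (by norm_num) (by rw [← hsq, h1, D.x_zero])
  rcases h3 with (h3 | h3) | ⟨h3, h5⟩
  · exact absurd hz h3
  · exact absurd (by rw [h3, D.x_zero]) h2
  · exact ⟨h3, R.inj (Equiv.ext fun i => (D.l_is h3 i).trans ((of_sameB h5 i).trans (D.x_is hm i).symm))⟩

end Cfsg.Agent.HSLocal.Finish
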